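import Groth.Agent.CommAlg4.HilbDim
import Mathlib

/-!
# The graded pieces of the tangent space at a power of the irrelevant ideal
-/

open MvPolynomial W4c1hilbpn
open scoped Classical
open Groth.Agent.CommAlg4.HilbPiece Groth.Agent.CommAlg4.HilbSplit

namespace Groth.Agent.CohDer1.Hilb.MPow

universe u v

variable {σ : Type v} [Fintype σ] {k : Type u} [Field k]

variable (σ k) in
/-- powers of the irrelevant ideal -/
noncomputable abbrev mp (r : ℕ) : Ideal (MvPolynomial σ k) :=
  (Ideal.span (Set.range (MvPolynomial.X : σ → MvPolynomial σ k))) ^ r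

theorem mem_exps {r : ℕ} {β : σ →₀ ℕ} : β ∈ exps (mp σ k r) ↔ r ≤ β.degree := by
  show monomial β (1 : k) ∈ idealOfVars σ k ^ r ↔ _
  rw [mem_pow_idealOfVars_iff]
  simp [support_monomial]

theorem isMonomial (r : ℕ) : IsMonomial (mp σ k r) := by
  intro p hp β hβ
  refine (mem_exps (β := β)).2 ?_
  exact (mem_pow_idealOfVars_iff (σ := σ) (R := k) r p).1 hp β hβ

theorem degree_le_of_apply (β : σ →₀ ℕ) (i : σ) : β i ≤ β.degree := by
  rw [Finsupp.degree_eq_sum]
  exact Finset.single_le_sum (fun j _ => Nat.zero_le (β j)) (Finset.mem_univ i)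

theorem finite_compl' (r : ℕ) : {δ : σ →₀ ℕ | δ ∉ exps (mp σ k r)}.Finite := by
  refine Set.Finite.subset (Finset.finite_toSet
    ((Finset.range r).biUnion fun m => Finset.univ.finsuppAntidiag m)) fun δ hδ => ?_
  simp only [Set.mem_setOf_eq, mem_exps, not_le] at hδ
  simp only [Finset.coe_biUnion, Set.mem_iUnion, Finset.mem_coe, Finset.mem_range]
  exact ⟨δ.degree, hδ, Finset.mem_finsuppAntidiag.2 ⟨by rw [Finsupp.degree_eq_sum], Finset.subset_univ _⟩⟩

instance moduleFinite (r : ℕ) : Module.Finite k (MvPolynomial σ k ⧸ mp σ k r) := by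
  refine ⟨⟨(finite_compl' (k := k) r).toFinset.image fun δ => Ideal.Quotient.mk (mp σ k r) (monomial δ 1), ?_⟩⟩
  rw [eq_top_iff]
  intro v _
  obtain ⟨p, rfl⟩ := Ideal.Quotient.mk_surjective v
  induction p using MvPolynomial.induction_on' with
  | monomial μ c =>
    have e : Ideal.Quotient.mk (mp σ k r) (monomial μ c) = c • Ideal.Quotient.mk (mp σ k r) (monomial μ 1) := by
      show _ = Ideal.Quotient.mk (mp σ k r) (c • monomial μ 1)
      rw [smul_monomial, smul_eq_mul, mul_one]
    rw [e]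
    by_cases h : μ ∈ exps (mp σ k r)
    · rw [show Ideal.Quotient.mk (mp σ k r) (monomial μ (1 : k)) = 0 from Ideal.Quotient.eq_zero_iff_mem.mpr h,
        smul_zero]
      exact Submodule.zero_mem _
    · refine Submodule.smul_mem _ _ (Submodule.subset_span ?_)
      simp only [Finset.coe_image, Set.mem_image, Finset.mem_coe, Set.Finite.mem_toFinset, Set.mem_setOf_eq]
      exact ⟨μ, h, rfl⟩
  | add p q hp hq => rw [map_add]; exact Submodule.add_mem _ (hp trivial) (hq trivial)

variable {r : ℕ} {α : σ → ℤ}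

theorem degree_toF {γ : σ → ℤ} (h : ∀ i, 0 ≤ γ i) : ((toF γ).degree : ℤ) = ∑ i, γ i := by
  rw [Finsupp.degree_eq_sum, Nat.cast_sum]
  exact Finset.sum_congr rfl fun i _ => by rw [toF_apply, Int.toNat_of_nonneg (h i)]

theorem mem_region_iff {γ : σ → ℤ} :
    γ ∈ region (mp σ k r) α ↔ (∀ i, α i ≤ γ i) ∧ (r : ℤ) + ∑ i, α i ≤ ∑ i, γ i ∧
      ((∀ i, 0 ≤ γ i) → ∑ i, γ i < (r : ℤ)) := by
  rw [mem_region]
  constructor
  · rintro ⟨⟨β, hβ, rfl⟩, h⟩
    rw [mem_exps, Finsupp.degree_eq_sum] at hβ
    refine ⟨fun i => by simp [vec], ?_, fun h0 => ?_⟩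
    · simp only [vec, Finset.sum_add_distrib]
      have : (r : ℤ) ≤ ∑ i, (β i : ℤ) := by exact_mod_cast hβ
      omega
    · by_contra hc
      refine h ⟨h0, mem_exps.2 ?_⟩
      have := degree_toF h0
      omega
  · rintro ⟨h1, h2, h3⟩
    refine ⟨⟨toF (γ - α), mem_exps.2 ?_, ?_⟩, fun h => ?_⟩
    · have := degree_toF (γ := γ - α) fun i => sub_nonneg.2 (h1 i)
      simp only [Pi.sub_apply, Finset.sum_sub_distrib] at this
      omega
    · funext i
      have := h1 i
      simp [vec]
      omega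
    · have := h3 h.1
      have := degree_toF h.1
      have := mem_exps.1 h.2
      omega

theorem sum_add_single (γ : σ → ℤ) (i : σ) (c : ℤ) : ∑ l, (γ + Pi.single i c : σ → ℤ) l = (∑ l, γ l) + c := by
  simp [Finset.sum_add_distrib]

theorem sum_lt_of_finite [Nontrivial σ] {C : (GR (mp σ k r) α).ConnectedComponent} (hC : C.supp.Finite)
    {a : region (mp σ k r) α} (ha : a ∈ C.supp) : ∑ i, a.1 i < (r : ℤ) :=
  (mem_region_iff.1 a.2).2.2 (nonneg_of_finite hC ha)

theorem mem_supp_of_succ {C : (GR (mp σ k r) α).ConnectedComponent} {a b : region (mp σ k r) α} (i : σ)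
    (e : (b : σ → ℤ) = (a : σ → ℤ) + Pi.single i 1) : a ∈ C.supp ↔ b ∈ C.supp := by
  rw [SimpleGraph.ConnectedComponent.mem_supp_iff, SimpleGraph.ConnectedComponent.mem_supp_iff,
    SimpleGraph.ConnectedComponent.connectedComponentMk_eq_of_adj (adj_of_succ a.2 b.2 i e)]

theorem sum_eq_neg_one_of_finite [Nontrivial σ] {C : (GR (mp σ k r) α).ConnectedComponent} (hC : C.supp.Finite)
    {a : region (mp σ k r) α} (ha : a ∈ C.supp) : ∑ i, α i = -1 := by
  have h2 := (mem_region_iff.1 a.2).2.1
  have h3 := sum_lt_of_finite hC ha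
  by_contra hs
  have hs2 : ∑ i, α i ≤ -2 := by omega
  obtain ⟨i, hi⟩ : ∃ i, α i < 0 := by
    by_contra hc
    push_neg at hc
    have := Finset.sum_nonneg fun i (_ : i ∈ Finset.univ) => hc i
    omega
  obtain ⟨j, hj⟩ := exists_ne i
  suffices H : ∀ N : ℕ, ∀ b : region (mp σ k r) α, b ∈ C.supp → (r : ℤ) + ∑ l, α l + 1 ≤ ∑ l, b.1 l →
      (b.1 i).toNat = N → False by
    by_cases hlev : (r : ℤ) + ∑ l, α l + 1 ≤ ∑ l, a.1 l
    · exact H _ a ha hlev rfl
    · have hm : a.1 + Pi.single j 1 ∈ region (mp σ k r) α := by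
        refine mem_region_iff.2 ⟨fun l => ?_, ?_, fun _ => ?_⟩
        · have := (mem_region_iff.1 a.2).1 l
          rw [Pi.add_apply, Pi.single_apply]
          split_ifs <;> omega
        · rw [sum_add_single]; omega
        · rw [sum_add_single]; omega
      refine H _ ⟨_, hm⟩ ((mem_supp_of_succ j rfl).1 ha) ?_ rfl
      show _ ≤ ∑ l, (a.1 + Pi.single j 1 : σ → ℤ) l
      rw [sum_add_single]; omega
  intro N
  induction N with
  | zero =>
    intro b hb hlev hN
    have h0 := nonneg_of_finite hC hb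
    have hm : b.1 + Pi.single i (-1) ∈ region (mp σ k r) α := by
      refine mem_region_iff.2 ⟨fun l => ?_, ?_, fun h => ?_⟩
      · have := (mem_region_iff.1 b.2).1 l
        rw [Pi.add_apply, Pi.single_apply]
        split_ifs with hl
        · subst hl; have := h0 l; omega
        · omega
      · rw [sum_add_single]; omega
      · have := h i; simp at this; have := h0 i; omega
    have := nonneg_of_finite hC ((mem_supp_of_succ (a := ⟨_, hm⟩) (b := b) i
      (by simp [add_assoc, ← Pi.single_add])).2 hb) i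
    simp at this; have := h0 i; omega
  | succ N ih =>
    intro b hb hlev hN
    have h0 := nonneg_of_finite hC hb
    have h1 := (mem_region_iff.1 b.2).1
    have hlt := sum_lt_of_finite hC hb
    have hm : b.1 + Pi.single i (-1) ∈ region (mp σ k r) α := by
      refine mem_region_iff.2 ⟨fun l => ?_, ?_, fun _ => ?_⟩
      · have := h1 l
        rw [Pi.add_apply, Pi.single_apply]
        split_ifs with hl
        · subst hl; have := h0 l; omega
        · omega
      · rw [sum_add_single]; omega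
      · rw [sum_add_single]; omega
    have hb' := (mem_supp_of_succ (a := ⟨_, hm⟩) (b := b) i (by simp [add_assoc, ← Pi.single_add])).2 hb
    have hm2 : b.1 + Pi.single i (-1) + Pi.single j 1 ∈ region (mp σ k r) α := by
      refine mem_region_iff.2 ⟨fun l => ?_, ?_, fun _ => ?_⟩
      · have := (mem_region_iff.1 hm).1 l
        rw [Pi.add_apply (b.1 + Pi.single i (-1)), Pi.single_apply j]
        split_ifs <;> omega
      · rw [sum_add_single, sum_add_single]; omega
      · rw [sum_add_single, sum_add_single]; omega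
    refine ih ⟨_, hm2⟩ ((mem_supp_of_succ j rfl).1 hb') ?_ ?_
    · show _ ≤ ∑ l, (b.1 + Pi.single i (-1) + Pi.single j 1 : σ → ℤ) l
      rw [sum_add_single, sum_add_single]; omega
    · simp [Pi.single_apply, hj.symm]; omega

theorem supp_eq_singleton (hs : ∑ i, α i = -1) {a : region (mp σ k r) α} (h0 : ∀ i, 0 ≤ a.1 i)
    {b : region (mp σ k r) α} (h : (GR (mp σ k r) α).Reachable a b) : b = a := by
  obtain ⟨w⟩ := h
  cases w with
  | nil => rfl
  | @cons _ c _ hadj _ =>
    exfalso
    have ha := mem_region_iff.1 a.2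
    have hc := mem_region_iff.1 c.2
    obtain ⟨i, hi | hi⟩ := succ_of_adj hadj
    · have := hc.2.2 fun l => by
        rw [hi, Pi.add_apply, Pi.single_apply]
        have := h0 l
        split_ifs <;> omega
      rw [hi, sum_add_single] at this
      have := ha.2.1
      omega
    · have := ha.2.2 h0
      rw [hi, sum_add_single] at this
      have := hc.2.1
      omega

/-- the sum of the absolute values of the negative entries -/
def negPart (α : σ → ℤ) : ℕ := ∑ i, (-α i).toNat

theorem sum_toNat (hs : ∑ i, α i = -1) : ((∑ i, (α i).toNat : ℕ) : ℤ) = (negPart α : ℤ) - 1 := by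
  have e : (∑ i, ((α i).toNat : ℤ)) - ∑ i, ((-α i).toNat : ℤ) = ∑ i, α i := by
    rw [← Finset.sum_sub_distrib]
    exact Finset.sum_congr rfl fun i _ => by omega
  rw [negPart, Nat.cast_sum, Nat.cast_sum]
  omega

theorem nBddComp_eq [Nontrivial σ] :
    nBddComp (mp σ k r) α = if (∑ i, α i = -1 ∧ negPart α ≤ r)
      then Nat.choose (Fintype.card σ + r - negPart α - 1) (Fintype.card σ - 1) else 0 := by
  have key : ∀ C : FinComp (mp σ k r) α, ∑ i, α i = -1 ∧ negPart α ≤ r ∧
      ∑ i, C.1.out.1 i = (r : ℤ) - 1 := fun C => by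
    have hmk := out_spec C.1
    have hs := sum_eq_neg_one_of_finite C.2 hmk
    have h0 := nonneg_of_finite C.2 hmk
    have hlt := sum_lt_of_finite C.2 hmk
    have hr := mem_region_iff.1 C.1.out.2
    have hge : ((∑ i, (α i).toNat : ℕ) : ℤ) ≤ ∑ i, C.1.out.1 i := by
      rw [Nat.cast_sum]
      exact Finset.sum_le_sum fun i _ => by have := h0 i; have := hr.1 i; omega
    rw [sum_toNat hs] at hge
    have := hr.2.1
    exact ⟨hs, by omega, by omega⟩
  unfold nBddComp
  split_ifs with h
  swap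
  · haveI : IsEmpty (FinComp (mp σ k r) α) := ⟨fun C => h ⟨(key C).1, (key C).2.1⟩⟩
    exact Nat.card_of_isEmpty
  obtain ⟨hs, hw⟩ := h
  let S := (Finset.univ : Finset σ).finsuppAntidiag (r - negPart α)
  let pt : (σ →₀ ℕ) → σ → ℤ := fun μ i => ((α i).toNat : ℤ) + μ i
  have hsum : ∀ μ ∈ S, ∑ i, pt μ i = (r : ℤ) - 1 := fun μ hμ => by
    have h := (Finset.mem_finsuppAntidiag.1 hμ).1
    simp only [pt, Finset.sum_add_distrib]
    have := sum_toNat hs
    rw [Nat.cast_sum] at this
    rw [this, ← Nat.cast_sum, h]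
    omega
  have hpt : ∀ μ ∈ S, pt μ ∈ region (mp σ k r) α := fun μ hμ =>
    mem_region_iff.2 ⟨fun i => by simp only [pt]; omega, by rw [hsum μ hμ]; omega, fun _ => by rw [hsum μ hμ]; omega⟩
  have hsingle : ∀ (μ : σ →₀ ℕ) (hμ : μ ∈ S) (b : region (mp σ k r) α),
      b ∈ ((GR (mp σ k r) α).connectedComponentMk ⟨_, hpt μ hμ⟩).supp → b = ⟨_, hpt μ hμ⟩ := fun μ hμ b hb =>
    supp_eq_singleton hs (fun i => by show 0 ≤ pt μ i; simp only [pt]; omega)
      ((SimpleGraph.ConnectedComponent.exact ((SimpleGraph.ConnectedComponent.mem_supp_iff _ _).1 hb)).symm)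
  let F : S → FinComp (mp σ k r) α := fun μ => ⟨(GR (mp σ k r) α).connectedComponentMk ⟨_, hpt μ.1 μ.2⟩,
    (Set.finite_singleton _).subset fun b hb => hsingle μ.1 μ.2 b hb⟩
  have hF : Function.Bijective F := by
    constructor
    · intro μ ν e
      have e1 : (GR (mp σ k r) α).connectedComponentMk ⟨_, hpt μ.1 μ.2⟩ =
          (GR (mp σ k r) α).connectedComponentMk ⟨_, hpt ν.1 ν.2⟩ := congrArg Subtype.val e
      have := hsingle μ.1 μ.2 ⟨_, hpt ν.1 ν.2⟩ ((SimpleGraph.ConnectedComponent.mem_supp_iff _ _).2 e1.symm)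
      refine Subtype.ext (Finsupp.ext fun i => ?_)
      have := congrFun (congrArg Subtype.val this) i
      simp only [pt] at this
      omega
    · intro C
      have hmk := out_spec C.1
      have h0 := nonneg_of_finite C.2 hmk
      have hr := (mem_region_iff.1 C.1.out.2).1
      obtain ⟨_, _, h3⟩ := key C
      let μ : σ →₀ ℕ := Finsupp.equivFunOnFinite.symm fun i => (C.1.out.1 i - (α i).toNat).toNat
      have hμpt : pt μ = C.1.out.1 := funext fun i => by
        simp only [pt, μ, Finsupp.coe_equivFunOnFinite_symm]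
        have := h0 i; have := hr i
        omega
      have hμ : μ ∈ S := by
        refine Finset.mem_finsuppAntidiag.2 ⟨?_, Finset.subset_univ _⟩
        have e : ((∑ i, (α i).toNat : ℕ) : ℤ) + ((∑ i, μ i : ℕ) : ℤ) = (r : ℤ) - 1 := by
          rw [← h3, ← hμpt, Nat.cast_sum, Nat.cast_sum, ← Finset.sum_add_distrib]
        have := sum_toNat hs
        show ∑ i, μ i = r - negPart α
        omega
      refine ⟨⟨μ, hμ⟩, Subtype.ext ?_⟩
      show (GR (mp σ k r) α).connectedComponentMk ⟨pt μ, _⟩ = C.1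
      rw [← hmk]
      exact congrArg _ (Subtype.ext hμpt)
  have hc := Nat.card_eq_of_bijective F hF
  refine hc.symm.trans ?_
  rw [Nat.card_eq_fintype_card, Fintype.card_coe, Finset.card_finsuppAntidiag_nat_eq_choose, Finset.card_univ]
  have hpos : 0 < Fintype.card σ := Fintype.card_pos
  rw [show Fintype.card σ + r - negPart α - 1 = Fintype.card σ + (r - negPart α) - 1 by omega,
    ← Nat.choose_symm (by omega)]
  congr 1
  omega

theorem finrank_tPiece_eq [Nontrivial σ] :
    Module.finrank k ↥(tPiece (mp σ k r) α) = if (∑ i, α i = -1 ∧ ∑ i, (-α i).toNat ≤ r)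
      then Nat.choose (Fintype.card σ + r - (∑ i, (-α i).toNat) - 1) (Fintype.card σ - 1) else 0 :=
  (finrank_tPiece (isMonomial r) α).trans nBddComp_eq

end Groth.Agent.CohDer1.Hilb.MPow
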