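import Groth.Agent.CohDer1.Hilb.MPow
import Mathlib

/-!
# Sign-pattern pieces of the tangent space at a power of the irrelevant ideal in three variables
-/

open MvPolynomial W4c1hilbpn
open scoped Classical
open Groth.Agent.CommAlg4.HilbPiece Groth.Agent.CommAlg4.HilbSplit Groth.Agent.CommAlg4.HilbDim

namespace Groth.Agent.CohDer1.Hilb.MPow

universe u

variable {k : Type u} [Field k] {r : ℕ}

theorem inner_sum (m : ℕ) : ∑ b ∈ Finset.range m, Nat.choose (m + 1 - b) 2 = Nat.choose (m + 2) 3 := by
  induction m with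
  | zero => rfl
  | succ m ih =>
    rw [Finset.sum_range_succ', Nat.choose_succ_succ' (m + 2) 2, ← ih, add_comm (Nat.choose (m + 2) 2)]
    simp

theorem outer_sum (n : ℕ) : ∑ a ∈ Finset.range n, Nat.choose (n - a + 1) 3 = Nat.choose (n + 2) 4 := by
  induction n with
  | zero => rfl
  | succ n ih =>
    rw [Finset.sum_range_succ', Nat.choose_succ_succ' (n + 2) 3, ← ih, add_comm (Nat.choose (n + 2) 3)]
    simp

theorem sum_choose (r : ℕ) : ∑ m ∈ Finset.range r, Nat.choose (3 + m - 1) m = Nat.choose (r + 2) 3 := by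
  induction r with
  | zero => rfl
  | succ r ih =>
    rw [Finset.sum_range_succ, ih, Nat.choose_succ_succ' (r + 2) 2, show 3 + r - 1 = r + 2 by omega,
      Nat.choose_symm_add (a := r) (b := 2)]
    rw [show (2 : ℕ) + 1 = 3 from rfl]
    omega

theorem colength : Module.finrank k (MvPolynomial (Fin 3) k ⧸ mp (Fin 3) k r) = Nat.choose (r + 2) 3 := by
  rw [finrank_quot (isMonomial r)]
  have e : (finite_compl (isMonomial (σ := Fin 3) (k := k) r)).toFinset =
      (Finset.range r).biUnion fun m => (Finset.univ : Finset (Fin 3)).finsuppAntidiag m := by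
    ext δ
    rw [Set.Finite.mem_toFinset]
    simp [mem_exps, Finsupp.degree_eq_sum]
  rw [e, Finset.card_biUnion]
  · simp only [Finset.card_finsuppAntidiag_nat_eq_choose, Finset.card_univ, Fintype.card_fin]
    exact sum_choose r
  · intro x _ y _ hxy
    rw [Function.onFun, Finset.disjoint_left]
    intro δ hx hy
    rw [Finset.mem_finsuppAntidiag] at hx hy
    exact hxy (hx.1.symm.trans hy.1)

theorem sigPiece_compl {p q l : Fin 3} (hpq : p ≠ q) (hpl : p ≠ l) (hql : q ≠ l) :
    Module.finrank k ↥(sigPiece (mp (Fin 3) k r) ({l}ᶜ : Set (Fin 3))) = Nat.choose (r + 2) 4 := by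
  have huniv : ∀ f : Fin 3 → ℕ, ∑ x, f x = f p + f q + f l := by
    intro f
    fin_cases p <;> fin_cases q <;> fin_cases l <;>
      first | exact absurd rfl hpq | exact absurd rfl hpl | exact absurd rfl hql | (simp [Fin.sum_univ_three]; try ring)
  have hunivZ : ∀ f : Fin 3 → ℤ, ∑ x, f x = f p + f q + f l := by
    intro f
    fin_cases p <;> fin_cases q <;> fin_cases l <;>
      first | exact absurd rfl hpq | exact absurd rfl hpl | exact absurd rfl hql | (simp [Fin.sum_univ_three]; try ring)
  have hforall : ∀ (Q : Fin 3 → Prop), Q p → Q q → Q l → ∀ x, Q x := by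
    intro Q hp hq hl x
    fin_cases p <;> fin_cases q <;> fin_cases l <;> fin_cases x <;>
      first | exact absurd rfl hpq | exact absurd rfl hpl | exact absurd rfl hql | assumption
  let al : ℕ × ℕ → Fin 3 → ℤ := fun ab x =>
    if x = p then -(ab.1 : ℤ) - 1 else if x = q then -(ab.2 : ℤ) - 1 else (ab.1 : ℤ) + ab.2 + 1
  have alp : ∀ ab, al ab p = -(ab.1 : ℤ) - 1 := fun ab => by simp [al]
  have alq : ∀ ab, al ab q = -(ab.2 : ℤ) - 1 := fun ab => by simp [al, hpq.symm]
  have all' : ∀ ab, al ab l = (ab.1 : ℤ) + ab.2 + 1 := fun ab => by simp [al, hpl.symm, hql.symm]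
  let P : Finset (ℕ × ℕ) := (Finset.range r ×ˢ Finset.range r).filter fun ab => ab.1 + ab.2 + 1 < r
  have hval : ∀ ab ∈ P, Module.finrank k ↥(tPiece (mp (Fin 3) k r) (al ab)) = Nat.choose (r - ab.1 - ab.2) 2 := by
    intro ab hab
    have hab' : ab.1 + ab.2 + 1 < r := (Finset.mem_filter.1 hab).2
    have hw : ∑ x, (-al ab x).toNat = ab.1 + ab.2 + 2 := by rw [huniv, alp, alq, all']; omega
    rw [finrank_tPiece_eq, if_pos ⟨by rw [hunivZ, alp, alq, all']; ring, by omega⟩, hw, Fintype.card_fin]
    congr 1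
    omega
  have hzero : ∀ α : Fin 3 → ℤ, α ∉ A (isMonomial (σ := Fin 3) (k := k) r) →
      Module.finrank k ↥(tPiece (mp (Fin 3) k r) α) = 0 := by
    intro α hα
    have : tPiece (mp (Fin 3) k r) α = ⊥ := by
      by_contra hne
      exact hα ((mem_A _).2 hne)
    rw [this, finrank_bot]
  rw [finrank_sigPiece (isMonomial r), Dim, Finset.sum_subset (s₂ := P.image al) ?_ ?_, Finset.sum_image ?_,
    Finset.sum_congr rfl hval]
  · rw [Finset.sum_filter, Finset.sum_product, ← outer_sum r]
    refine Finset.sum_congr rfl fun a ha => ?_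
    rw [Finset.mem_range] at ha
    obtain ⟨m, hm⟩ : ∃ m, r - a = m + 1 := ⟨r - a - 1, by omega⟩
    rw [hm, ← inner_sum m, ← Finset.sum_filter]
    refine Finset.sum_congr ?_ fun b hb => ?_
    · ext b; simp; omega
    · rw [Finset.mem_range] at hb; congr 1; omega
  · intro x _ y _ e
    have h1 := congrFun e p
    have h2 := congrFun e q
    rw [alp, alp] at h1
    rw [alq, alq] at h2
    exact Prod.ext (by omega) (by omega)
  · intro α hα
    obtain ⟨hA, hS⟩ := (@Finset.mem_filter _ _ (fun a => Classical.propDecidable _) _ _).1 hα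
    have hp : α p < 0 := (hS p).2 (by simp [hpl])
    have hq : α q < 0 := (hS q).2 (by simp [hql])
    have hl : ¬ α l < 0 := fun h => by simpa using (hS l).1 h
    have hne : Module.finrank k ↥(tPiece (mp (Fin 3) k r) α) ≠ 0 := fun h0 => by
      haveI := finite_tgt (k := k) (I := mp (Fin 3) k r)
      exact (mem_A _).1 hA (Submodule.finrank_eq_zero.1 h0)
    rw [finrank_tPiece_eq] at hne
    split_ifs at hne with h
    swap
    · exact absurd rfl hne
    rw [hunivZ, huniv] at h
    refine Finset.mem_image.2 ⟨((-α p - 1).toNat, (-α q - 1).toNat), Finset.mem_filter.2 ⟨?_, ?_⟩,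
      funext (hforall _ (by rw [alp]; simp only; omega) (by rw [alq]; simp only; omega) (by rw [all']; simp only; omega))⟩
    · simp only [Finset.mem_product, Finset.mem_range]; omega
    · simp only; omega
  · intro α hα hnot
    obtain ⟨ab, hab, rfl⟩ := Finset.mem_image.1 hα
    refine hzero _ fun hA => hnot ((@Finset.mem_filter _ _ (fun a => Classical.propDecidable _) _ _).2 ⟨hA, hforall _ ?_ ?_ ?_⟩)
    · simp [alp, hpl]; omega
    · simp [alq, hql]; omega
    · simp [all']; omega

theorem sigPiece_compl' (i : Fin 3) :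
    Module.finrank k ↥(sigPiece (mp (Fin 3) k r) ({i}ᶜ : Set (Fin 3))) = Nat.choose (r + 2) 4 := by
  fin_cases i
  · exact sigPiece_compl (p := 1) (q := 2) (by decide) (by decide) (by decide)
  · exact sigPiece_compl (p := 0) (q := 2) (by decide) (by decide) (by decide)
  · exact sigPiece_compl (p := 0) (q := 1) (by decide) (by decide) (by decide)

theorem sigPiece_single (i : Fin 3) :
    Module.finrank k ↥(sigPiece (mp (Fin 3) k r) ({i} : Set (Fin 3))) = Nat.choose (r + 3) 4 := by
  have h := sigPiece_axis (isMonomial (σ := Fin 3) (k := k) r) (Equiv.swap i 2)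
  rw [Equiv.swap_apply_right] at h
  rw [h, sigPiece_compl', colength, Nat.choose_succ_succ' (r + 2) 3, add_comm]

theorem finrank_tgt_eq :
    Module.finrank k (Tgt (mp (Fin 3) k r)) = Nat.choose (r + 2) 2 * Nat.choose (r + 1) 2 := by
  have hJ := isMonomial (σ := Fin 3) (k := k) r
  have hsum : Module.finrank k (Tgt (mp (Fin 3) k r)) = ∑ i : Fin 3,
      (Module.finrank k ↥(sigPiece (mp (Fin 3) k r) {i}) +
        Module.finrank k ↥(sigPiece (mp (Fin 3) k r) ({i}ᶜ : Set (Fin 3)))) := by
    simp only [finrank_tgt hJ, finrank_sigPiece hJ, Dim, Fin.sum_univ_three, Finset.filter_true, Finset.sum_filter,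
      ← Finset.sum_add_distrib]
    refine Finset.sum_congr rfl fun α hα => ?_
    have h1 : ¬ (∀ x, 0 ≤ α x) := fun h => (mem_A hJ).mp hα (tPiece_eq_bot hJ (Or.inl h))
    have h2 : ¬ (∀ x, α x < 0) := fun h => (mem_A hJ).mp hα (tPiece_eq_bot hJ (Or.inr h))
    simp only [Fin.forall_fin_succ, IsEmpty.forall_iff, Set.mem_singleton_iff, Set.mem_compl_iff,
      Fin.succ_zero_eq_one, Fin.succ_one_eq_two, and_true, Fin.reduceEq, not_false_eq_true, not_true_eq_false,
      iff_false, iff_true, not_lt] at h1 h2 ⊢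
    generalize Module.finrank k ↥(tPiece (mp (Fin 3) k r) α) = n at *
    split_ifs <;> omega
  rw [hsum, Finset.sum_congr rfl fun i _ => by rw [sigPiece_single i, sigPiece_compl' i]]
  rw [Finset.sum_const, Finset.card_univ, Fintype.card_fin, smul_eq_mul]
  have h2 : ∀ n : ℕ, 2 * Nat.choose (n + 1) 2 = (n + 1) * n := fun n => by
    induction n with
    | zero => rfl
    | succ n ih => rw [Nat.choose_succ_succ' (n + 1) 1, Nat.choose_one_right, mul_add, ih]; ring
  have h3 : ∀ n : ℕ, 6 * Nat.choose (n + 2) 3 = (n + 2) * (n + 1) * n := fun n => by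
    induction n with
    | zero => rfl
    | succ n ih => rw [Nat.choose_succ_succ' (n + 2) 2, mul_add, ih,
        show 6 * (n + 2).choose 2 = 3 * (2 * (n + 1 + 1).choose 2) by ring, h2]; ring
  have h4 : ∀ n : ℕ, 24 * Nat.choose (n + 3) 4 = (n + 3) * (n + 2) * (n + 1) * n := fun n => by
    induction n with
    | zero => rfl
    | succ n ih => rw [Nat.choose_succ_succ' (n + 3) 3, mul_add, ih,
        show 24 * (n + 3).choose 3 = 4 * (6 * (n + 1 + 2).choose 3) by ring, h3]; ring
  cases r with
  | zero => rfl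
  | succ m =>
    have e1 := h4 (m + 1)
    have e2 := h4 m
    have e3 := h2 (m + 2)
    have e4 := h2 (m + 1)
    rw [show m + 1 + 2 = m + 3 by omega, show m + 1 + 1 = m + 2 by omega] at *
    rw [show m + 2 + 1 = m + 3 by omega] at e3
    have key : 4 * (3 * ((m + 1 + 3).choose 4 + (m + 3).choose 4)) = 4 * ((m + 3).choose 2 * (m + 2).choose 2) := by
      nlinarith [e1, e2, e3, e4]
    exact Nat.eq_of_mul_eq_mul_left (by norm_num) key

end Groth.Agent.CohDer1.Hilb.MPow
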