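import Groth.Agent.CommAlg4.HilbPiece
import Mathlib

/-!
# Tangent vectors from a minimal generator to a socle monomial
-/

open MvPolynomial W4c1hilbpn
open scoped Classical
open Groth.Agent.CommAlg4.HilbPiece

namespace Groth.Agent.CohDer1.Hilb.Socle

universe u v

variable {σ : Type v} [Fintype σ] {k : Type u} [Field k] {I : Ideal (MvPolynomial σ k)}

theorem coeff_mul_gen (hI : IsMonomial I) {A : σ →₀ ℕ} (hA : ∀ i, 0 < A i → A - Finsupp.single i 1 ∉ exps I)
    (q p : MvPolynomial σ k) (hp : p ∈ I) : coeff A (q * p) = coeff 0 q * coeff A p := by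
  rw [coeff_mul, Finset.sum_eq_single (0, A)]
  · rintro ⟨x, y⟩ hxy hne
    rw [Finset.HasAntidiagonal.mem_antidiagonal] at hxy
    dsimp only at hxy ⊢
    by_contra h
    have hy : monomial y (1 : k) ∈ I := hI p hp y (mem_support_iff.2 (right_ne_zero_of_mul h))
    have hx : x ≠ 0 := by
      rintro rfl
      rw [zero_add] at hxy
      exact hne (by rw [hxy])
    obtain ⟨i, hi⟩ := Finsupp.ne_iff.1 hx
    simp only [Finsupp.coe_zero, Pi.zero_apply] at hi
    have hAi : 0 < A i := by rw [← hxy, Finsupp.add_apply]; omega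
    refine hA i hAi (exps_mono hy fun j => ?_)
    rw [← hxy, Finsupp.tsub_apply, Finsupp.add_apply, Finsupp.single_apply]
    split_ifs with hj
    · subst hj; omega
    · omega
  · intro h
    exact absurd (Finset.HasAntidiagonal.mem_antidiagonal.2 (zero_add A)) h

theorem smul_socle {δ : σ →₀ ℕ} (hδ : ∀ i, δ + Finsupp.single i 1 ∈ exps I) (q : MvPolynomial σ k) :
    q • Ideal.Quotient.mk I (monomial δ (1 : k)) = coeff 0 q • Ideal.Quotient.mk I (monomial δ 1) := by
  show Ideal.Quotient.mk I (q * monomial δ 1) = Ideal.Quotient.mk I (coeff 0 q • monomial δ 1)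
  refine Ideal.Quotient.eq.2 ?_
  rw [smul_eq_C_mul, ← sub_mul]
  generalize hq : q - C (coeff 0 q) = r
  have hr : coeff 0 r = 0 := by rw [← hq, coeff_sub, coeff_zero_C, sub_self]
  rw [r.as_sum, Finset.sum_mul]
  refine Submodule.sum_mem _ fun μ hμ => ?_
  have hμ0 : μ ≠ 0 := fun e => mem_support_iff.1 hμ (e ▸ hr)
  obtain ⟨i, hi⟩ := Finsupp.ne_iff.1 hμ0
  simp only [Finsupp.coe_zero, Pi.zero_apply] at hi
  rw [monomial_mul, mul_one, show monomial (μ + δ) (coeff μ r) = C (coeff μ r) * monomial (μ + δ) 1 by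
    rw [C_mul_monomial, mul_one]]
  refine I.mul_mem_left _ (exps_mono (hδ i) fun j => ?_)
  rw [Finsupp.add_apply, Finsupp.add_apply, Finsupp.single_apply]
  split_ifs with hj
  · subst hj; omega
  · omega

/-- A minimal generator and a socle monomial give a nonzero graded tangent vector. -/
theorem tPiece_ne_bot (hI : IsMonomial I) {A δ : σ →₀ ℕ} (hAI : A ∈ exps I)
    (hA : ∀ i, 0 < A i → A - Finsupp.single i 1 ∉ exps I) (hδI : δ ∉ exps I)
    (hδ : ∀ i, δ + Finsupp.single i 1 ∈ exps I) :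
    tPiece I (fun i => (δ i : ℤ) - A i) ≠ ⊥ := by
  let e := Ideal.Quotient.mk I (monomial δ (1 : k))
  let φ : Tgt I :=
    { toFun := fun p => coeff A (p : MvPolynomial σ k) • e
      map_add' := fun p q => by
        show coeff A ((p : MvPolynomial σ k) + (q : MvPolynomial σ k)) • e = _
        rw [coeff_add, add_smul]
      map_smul' := fun q p => by
        show coeff A (q * (p : MvPolynomial σ k)) • e = q • (coeff A (p : MvPolynomial σ k) • e)
        rw [coeff_mul_gen hI hA q _ p.2, smul_comm q (coeff A (p : MvPolynomial σ k)) e,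
          smul_socle hδ q, smul_smul, mul_comm] }
  have hφ : φ ∈ tPiece I (fun i => (δ i : ℤ) - A i) := by
    intro β hβ
    show (_ → coeff A (monomial β (1 : k)) • e ∈ _) ∧ (_ → coeff A (monomial β (1 : k)) • e = 0)
    rw [coeff_monomial]
    split_ifs with h
    · subst h
      refine ⟨fun _ => ?_, fun ⟨i, hi⟩ => absurd hi (by simp)⟩
      have : shift β (fun i => (δ i : ℤ) - β i) = δ := by ext i; simp [shift]
      rw [this, one_smul]
      exact Submodule.mem_span_singleton_self _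
    · simp
  intro h
  rw [h, Submodule.mem_bot] at hφ
  have h1 : coeff A (monomial A (1 : k)) • e = 0 := LinearMap.congr_fun hφ ⟨monomial A 1, hAI⟩
  rw [coeff_monomial, if_pos rfl, one_smul] at h1
  exact hδI (Ideal.Quotient.eq_zero_iff_mem.1 h1)

/-- In a box whose upper faces lie in the ideal above some height there is a socle monomial. -/
theorem exists_socle_in_box (hI : IsMonomial I) [Module.Finite k (MvPolynomial σ k ⧸ I)] (l : σ)
    (a : σ → ℕ) (w : σ → (σ →₀ ℕ)) (hw : ∀ j, j ≠ l → w j ∉ exps I ∧ ∀ i, i ≠ l → w j i < a i)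
    (hface : ∀ j, j ≠ l → ∀ δ : σ →₀ ℕ, a j ≤ δ j → w j l ≤ δ l → δ ∈ exps I) (hne : ∃ j, j ≠ l) :
    ∃ δ : σ →₀ ℕ, δ ∉ exps I ∧ (∀ i, δ + Finsupp.single i 1 ∈ exps I) ∧ ∀ i, i ≠ l → δ i < a i := by
  let S := (finite_compl hI).toFinset.filter fun δ => ∀ i, i ≠ l → δ i < a i
  have hS : ∀ {δ}, δ ∈ S ↔ δ ∉ exps I ∧ ∀ i, i ≠ l → δ i < a i := fun {δ} => by
    simp [S]
  obtain ⟨j₀, hj₀⟩ := hne
  obtain ⟨δ₁, h1, hmax1⟩ := S.exists_max_image (fun δ => δ l) ⟨_, hS.2 (hw j₀ hj₀)⟩
  obtain ⟨δ, h2, hmax2⟩ := (S.filter fun δ => δ l = δ₁ l).exists_max_image (fun δ => δ.degree)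
    ⟨δ₁, Finset.mem_filter.2 ⟨h1, rfl⟩⟩
  obtain ⟨h2, hl⟩ := Finset.mem_filter.1 h2
  obtain ⟨h3, h4⟩ := hS.1 h2
  refine ⟨δ, h3, fun i => ?_, h4⟩
  by_contra hc
  by_cases hi : i = l
  · subst hi
    have := hmax1 (δ + Finsupp.single i 1) (hS.2 ⟨hc, fun m hm => by simpa [Finsupp.single_apply, Ne.symm hm] using h4 m hm⟩)
    simp [hl] at this
  · by_cases hb : δ i + 1 < a i
    · have := hmax2 (δ + Finsupp.single i 1) (Finset.mem_filter.2 ⟨hS.2 ⟨hc, fun m hm => ?_⟩, by
        simp [Finsupp.single_apply, hi, hl]⟩)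
      · simp [Finsupp.degree_single] at this
      · rw [Finsupp.add_apply, Finsupp.single_apply]
        split_ifs with h
        · subst h; exact hb
        · simpa using h4 m hm
    · refine hc (hface i hi _ ?_ ?_)
      · simp; omega
      · have := hmax1 (w i) (hS.2 (hw i hi))
        simp [Finsupp.single_apply, hi, hl]
        omega

theorem fin3_forall {Q : Fin 3 → Prop} {p q l : Fin 3} (hpq : p ≠ q) (hpl : p ≠ l) (hql : q ≠ l) :
    Q p → Q q → Q l → ∀ i, Q i := by
  intro a b c i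
  fin_cases p <;> fin_cases q <;> fin_cases l <;> fin_cases i <;>
    first | exact absurd rfl hpq | exact absurd rfl hpl | exact absurd rfl hql | assumption

/-- A socle monomial below a mixed minimal generator gives a piece negative at exactly its two variables. -/
theorem sigPiece_pair_ne_bot {I : Ideal (MvPolynomial (Fin 3) k)} (hI : IsMonomial I)
    [Module.Finite k (MvPolynomial (Fin 3) k ⧸ I)] {p q l : Fin 3} (hpq : p ≠ q) (hpl : p ≠ l) (hql : q ≠ l)
    {A wp wq : Fin 3 →₀ ℕ} (hAl : A l = 0) (hAI : A ∈ exps I)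
    (hA : ∀ i, 0 < A i → A - Finsupp.single i 1 ∉ exps I)
    (hwp : wp ∉ exps I) (hwp' : wp p < A p ∧ wp q < A q)
    (hwq : wq ∉ exps I) (hwq' : wq p < A p ∧ wq q < A q)
    (hp : ∀ δ : Fin 3 →₀ ℕ, A p ≤ δ p → wp l ≤ δ l → δ ∈ exps I)
    (hq : ∀ δ : Fin 3 →₀ ℕ, A q ≤ δ q → wq l ≤ δ l → δ ∈ exps I) :
    sigPiece I ({p, q} : Set (Fin 3)) ≠ ⊥ := by
  obtain ⟨δ, h1, h2, h3⟩ := exists_socle_in_box hI l (fun i => A i) (fun j => if j = p then wp else wq)
    (fin3_forall (Q := fun j => j ≠ l → _) hpq hpl hql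
      (fun _ => by
        rw [if_pos rfl]
        exact ⟨hwp, fin3_forall (Q := fun i => i ≠ l → wp i < A i) hpq hpl hql (fun _ => hwp'.1) (fun _ => hwp'.2)
          (fun h => absurd rfl h)⟩)
      (fun _ => by
        rw [if_neg hpq.symm]
        exact ⟨hwq, fin3_forall (Q := fun i => i ≠ l → wq i < A i) hpq hpl hql (fun _ => hwq'.1) (fun _ => hwq'.2)
          (fun h => absurd rfl h)⟩)
      (fun h => absurd rfl h))
    (fin3_forall (Q := fun j => j ≠ l → _) hpq hpl hql (fun _ => by rw [if_pos rfl]; exact hp)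
      (fun _ => by rw [if_neg hpq.symm]; exact hq) (fun h => absurd rfl h))
    ⟨p, hpl⟩
  refine fun hbot => tPiece_ne_bot hI hAI hA h1 h2 (le_bot_iff.1 ?_)
  rw [← hbot]
  refine le_iSup_of_le ⟨fun i => (δ i : ℤ) - A i, fin3_forall (Q := fun i => _) hpq hpl hql ?_ ?_ ?_⟩ le_rfl
  · have := h3 p hpl; simp; omega
  · have := h3 q hql; simp; omega
  · simp [hAl, hpl.symm, hql.symm]

end Groth.Agent.CohDer1.Hilb.Socle
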