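import Groth.Agent.CommAlg4.HilbSplit
import Groth.Agent.CohDer1.Hilb.Socle
import Mathlib

/-!
# Strongly stable ideals containing the first variable
-/

open MvPolynomial W4c1hilbpn
open scoped Classical
open Groth.Agent.CommAlg4.HilbPiece Groth.Agent.CommAlg4.HilbSplit

namespace Groth.Agent.CohDer1.Hilb.XMem

universe u v

variable {σ : Type v} [Fintype σ] {k : Type u} [Field k] {I : Ideal (MvPolynomial σ k)} {α : σ → ℤ}
  (hI : IsMonomial I) [Module.Finite k (MvPolynomial σ k ⧸ I)]
include hI

theorem eq_bot_of_isEmpty (h : IsEmpty (FinComp I α)) : tPiece I α = ⊥ := by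
  haveI := h
  haveI : Subsingleton ↥(tPiece I α) := (toComp_injective hI).subsingleton
  exact Submodule.eq_bot_of_subsingleton

/-- No bounded component when all entries are nonpositive and two are negative. -/
theorem eq_bot_of_nonpos [Nontrivial σ] {i1 i2 : σ} (hne : i1 ≠ i2) (hα : ∀ i, α i ≤ 0) (h1 : α i1 < 0)
    (h2 : α i2 < 0) : tPiece I α = ⊥ := by
  refine eq_bot_of_isEmpty hI ⟨fun C => ?_⟩
  suffices H : ∀ (N : ℕ) (a : region I α), a ∈ C.1.supp → (a.1 i2).toNat = N → False from
    H _ _ (out_spec C.1) rfl
  intro N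
  induction N using Nat.strong_induction_on with
  | _ N ih =>
    intro a ha hN
    have h0 := nonneg_of_finite C.2 ha
    obtain ⟨hb, hv⟩ := bet_mem a.2
    have hex : ∃ t : ℕ, toF a.1 + Finsupp.single i1 t ∈ exps I := by
      by_contra hc
      push_neg at hc
      exact (finite_compl hI).not_infinite (Set.infinite_of_injective_forall_mem
        (fun s t e => by simpa using congrArg (fun g : σ →₀ ℕ => g i1) e) hc)
    have ht := Nat.find_spec hex
    have ht0 : Nat.find hex ≠ 0 := fun e => by
      rw [e, Finsupp.single_zero, add_zero] at ht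
      exact not_mem_exps a.2 h0 ht
    obtain ⟨s, hs⟩ := Nat.exists_eq_succ_of_ne_zero ht0
    have hlow : toF a.1 + Finsupp.single i1 s ∉ exps I := Nat.find_min hex (by omega)
    rw [hs] at ht
    have hη : vec α (bet α a.1 + Finsupp.single i1 s) ∈ region I α := by
      refine mem_region.mpr ⟨⟨_, exps_mono hb le_self_add, rfl⟩, fun hc => hlow ?_⟩
      convert hc.2 using 1
      ext j
      have := congrFun hv j
      simp only [vec] at this
      simp only [toF_apply, Finsupp.add_apply, vec]
      push_cast
      have := h0 j; omega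
    have hmem : (⟨_, hη⟩ : region I α) ∈ C.1.supp := by
      have r1 := conn hb (Finsupp.single i1 s) hη
      have ha' : (⟨vec α (bet α a.1), region_down hb le_self_add hη⟩ : region I α) = a := Subtype.ext hv
      rw [ha'] at r1
      rw [SimpleGraph.ConnectedComponent.mem_supp_iff] at ha ⊢
      rw [← ha]
      exact (SimpleGraph.ConnectedComponent.sound r1).symm
    set β' := toF a.1 + Finsupp.single i1 (s + 1) with hβ'
    have hle : β' ≤ bet α a.1 + Finsupp.single i1 s := by
      intro j
      have := congrFun hv j
      simp only [vec] at this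
      have := h0 j; have := hα j
      simp only [hβ', Finsupp.add_apply, toF_apply, Finsupp.single_apply]
      split_ifs with hj
      · subst hj; omega
      · omega
    obtain ⟨μ, hμ⟩ := exists_add_of_le hle
    have hη2 : vec α (β' + μ) ∈ region I α := by rw [← hμ]; exact hη
    have hmem' : (⟨vec α β', region_down ht le_self_add hη2⟩ : region I α) ∈ C.1.supp := by
      rw [SimpleGraph.ConnectedComponent.mem_supp_iff] at hmem ⊢
      rw [← hmem]
      refine SimpleGraph.ConnectedComponent.sound ?_
      convert conn ht μ hη2 using 3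
    have hlt : (vec α β' i2).toNat < N := by
      have := nonneg_of_finite C.2 hmem' i2
      have := h0 i2
      simp only [vec, hβ', Finsupp.add_apply, toF_apply, Finsupp.single_apply, if_neg hne] at *
      omega
    exact ih _ hlt _ hmem' rfl

theorem eq_bot_of_X_mem [Nontrivial σ] {p q : σ} (hp : Finsupp.single p 1 ∈ exps I) (hpq : p ≠ q)
    (h : 0 < α p ∨ (α p < 0 ∧ α q < 0)) : tPiece I α = ⊥ := by
  refine eq_bot_of_isEmpty hI ⟨fun C => ?_⟩
  have hmk := out_spec C.1
  have h0 := nonneg_of_finite C.2 hmk
  have hnot := not_mem_exps C.1.out.2 h0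
  obtain ⟨hb, hv⟩ := bet_mem C.1.out.2
  have hzero : C.1.out.1 p = 0 := by
    by_contra hc
    refine hnot (exps_mono hp (Finsupp.single_le_iff.2 ?_))
    have := h0 p
    rw [toF_apply]; omega
  have hv' := congrFun hv p
  simp only [vec] at hv'
  rcases h with h | ⟨h1, h2⟩
  · omega
  · have hle : Finsupp.single p 1 ≤ bet α C.1.out.1 := Finsupp.single_le_iff.2 (by omega)
    obtain ⟨μ, hμ⟩ := exists_add_of_le hle
    have hη : vec α (Finsupp.single p 1 + μ) ∈ region I α := by rw [← hμ, hv]; exact C.1.out.2
    have r := conn hp μ hη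
    have e : (⟨_, hη⟩ : region I α) = C.1.out := Subtype.ext (by show vec α _ = _; rw [← hμ, hv])
    rw [e] at r
    have hmem : (⟨vec α (Finsupp.single p 1), region_down hp le_self_add hη⟩ : region I α) ∈ C.1.supp := by
      rw [SimpleGraph.ConnectedComponent.mem_supp_iff, ← hmk]
      exact SimpleGraph.ConnectedComponent.sound r
    have := nonneg_of_finite C.2 hmem q
    simp [vec, Finsupp.single_apply, hpq] at this
    omega

end Groth.Agent.CohDer1.Hilb.XMem
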